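import Cfsg.Agent.H680.Cov.SU6.Kill
import Cfsg.Agent.H729.CovU

/-!
# S2499, `SU_6(q)`: geometric subgroups containing `b` and an element of prime order `v`, `-q` of order six modulo `v`
(helper680)
-/

set_option autoImplicit false
set_option linter.unusedSectionVars false

namespace Cfsg.Agent.H680.Cov.SU6

open Cfsg Cfsg.Geo Module Cfsg.Agent.H951 Cfsg.Agent.H251.GeoU Cfsg.Agent.H251.GeoCard
open scoped Matrix MatrixGroups

universe u

variable {F : Type u} [Field F] [Fintype F] {q : ℕ}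

/-- `-q` of order three modulo `w`, `w ≠ 2`: `q` has order six -/
theorem ord_six {w : ℕ} (hw : w.Prime) (hw2 : w ≠ 2) (h : orderOf (-(q : ZMod w)) = 3) :
    orderOf ((q : ℕ) : ZMod w) = 6 := by
  have hfw := Fact.mk hw
  have h3 : (-(q : ZMod w)) ^ 3 = 1 := by rw [← h, pow_orderOf_eq_one]
  have hq3 : ((q : ℕ) : ZMod w) ^ 3 = -1 := by
    have h4 : (-(q : ZMod w)) ^ 3 = -((q : ZMod w) ^ 3) := by ring
    rw [h4] at h3
    rw [← h3, neg_neg]
  have hne : (-1 : ZMod w) ≠ 1 := by
    have := Fact.mk (lt_of_le_of_ne hw.two_le (Ne.symm hw2))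
    exact ZMod.neg_one_ne_one
  apply orderOf_eq_of_pow_and_pow_div_prime (by norm_num)
  · rw [show (6 : ℕ) = 3 * 2 by norm_num, pow_mul, hq3]; ring
  · intro p hp hp6
    have : p = 2 ∨ p = 3 := by
      have h5 : p ∣ 2 * 3 := hp6
      rcases hp.dvd_mul.1 h5 with h6 | h6
      · exact Or.inl ((Nat.prime_dvd_prime_iff_eq hp Nat.prime_two).1 h6)
      · exact Or.inr ((Nat.prime_dvd_prime_iff_eq hp Nat.prime_three).1 h6)
    rcases this with rfl | rfl
    · rw [show 6 / 2 = 3 by norm_num, hq3]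
      exact hne
    · rw [show 6 / 3 = 2 by norm_num]
      intro h7
      have h8 : (-(q : ZMod w)) ^ 2 = 1 := by rw [neg_sq]; exact h7
      have h9 := orderOf_dvd_of_pow_eq_one h8
      rw [h] at h9
      omega

/-- **Geometric subgroups.** -/
theorem geo_bc (hF : Fintype.card F = q ^ 2) {p f v w : ℕ} (hp : p.Prime) (hq : q = p ^ f) (hf : 1 ≤ f)
    (hv : v.Prime) (hv7 : 7 ≤ v) (hvo : orderOf (-(q : ZMod v)) = 6)
    (hw : w.Prime) (hw7 : 7 ≤ w) (hwiff : ∀ k, w ∣ p ^ k - 1 ↔ 2 * 3 * f ∣ k) (hwo : orderOf (-(q : ZMod w)) = 3)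
    {X : Subgroup (GL (Fin (3 + 3)) F)} (hX : InUnitaryClass (3 + 3) F q X) (hvX : v ∣ Nat.card X)
    {g h : GL (Fin (3 + 3)) F} (hg : g ∈ X) (hh : h ∈ X) (hgI : Isom (hermForm (3 + 3) F q) (Matrix.toLin' g.1))
    (hgw : g ^ w = 1)
    (hgf : finrank F (fx (Matrix.toLin' g.1)) = 3) (hhf : finrank F (fx (Matrix.toLin' h.1)) = 4)
    (hcm : ∀ v ∈ cm (Matrix.toLin' g.1), (h : Matrix (Fin (3 + 3)) (Fin (3 + 3)) F) *ᵥ v = v) : False := by
  classical
  have hfv := Fact.mk hv
  have hfw := Fact.mk hw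
  have hvq := not_dvd_of_ord hv hvo (by norm_num)
  have hrv := natCast_ne hF hv hvq
  have hwq := not_dvd_of_ord hw hwo (by norm_num)
  have hrw := natCast_ne hF hw hwq
  have hwF := not_dvd_card hF hw hwq
  have hv3 : orderOf ((q ^ 2 : ℕ) : ZMod v) = 3 := ord_sq_even hvo ⟨3, rfl⟩
  have hw3 : orderOf ((q ^ 2 : ℕ) : ZMod w) = 3 := ord_sq_odd hwo ⟨1, rfl⟩
  have hqq := Nat.one_le_pow 2 q (LieClassical.HermBasic.q_pos hF)
  have hscal : ¬ w ∣ Nat.card F - 1 := by
    intro h1
    have h2 : Div w (q ^ 2) 1 := div_one le_rfl (by rwa [← nat_card_eq hF])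
    have h3 := ord_le_of_div hqq h2
    omega
  have hne : Nonempty (Fin (3 + 3)) := ⟨⟨0, by norm_num⟩⟩
  have hgl : Matrix.toLin' g.1 ^ w = 1 := toLin_pow_one hgw
  have hgfc := finrank_fx_cm hrw hgl
  rw [hgf, finrank_fintype_fun_eq_card, Fintype.card_fin] at hgfc
  have hndf : Nd (hermForm (3 + 3) F q) (fx (Matrix.toLin' g.1)) :=
    hgI.nd_fx (H950.frm_herm hF (3 + 3)) hrw hgl (H950.nd_top hF (3 + 3))
  have hndc : Nd (hermForm (3 + 3) F q) (cm (Matrix.toLin' g.1)) :=
    hgI.nd_cm (H950.frm_herm hF (3 + 3)) hrw hgl (H950.nd_top hF (3 + 3))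
  have hcmne : cm (Matrix.toLin' g.1) ≠ ⊥ := by
    intro h1
    rw [h1, finrank_bot] at hgfc
    omega
  -- the element of order `v`
  have hC : ∀ Y : Subgroup (GL (Fin (3 + 3)) F), v ∣ Nat.card (Y ⊓ Cfsg.GU (3 + 3) F q : Subgroup _) →
      ∃ c ∈ Y, Isom (hermForm (3 + 3) F q) (Matrix.toLin' c.1) ∧ c ^ v = 1 ∧ fx (Matrix.toLin' c.1) = ⊥ := by
    intro Y hY
    obtain ⟨c, hc, hci, hcs, hc1⟩ := exists_elt hv hY inf_le_right
    have hfix := fix_le hF hvq hci hcs hc1
    rw [hvo] at hfix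
    refine ⟨c, hc.1, hci, ?_, ?_⟩
    · apply Units.ext
      apply Matrix.toLin'.injective
      rw [toLin_pow, hcs, Units.val_one, Matrix.toLin'_one]
      rfl
    · rw [← Submodule.finrank_eq_zero (R := F)]
      omega
  have hC3 : ∀ (c : GL (Fin (3 + 3)) F) (W : Submodule F (Fin (3 + 3) → F)), c ^ v = 1 →
      fx (Matrix.toLin' c.1) = ⊥ → c ∈ subspaceStabilizer W → W ≠ ⊥ → 3 ≤ finrank F W := by
    intro c W hcv hcf hcW hW
    by_contra hlt
    apply hW
    rw [eq_bot_iff, ← hcf]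
    apply le_fx hrv (toLin_pow_one hcv) (inv_of_mem hcW)
    rw [hF, hv3]
    omega
  -- three-dimensional spaces fixed by `g`
  have hG : ∀ W : Submodule F (Fin (3 + 3) → F), g ∈ subspaceStabilizer W → finrank F W = 3 →
      Nd (hermForm (3 + 3) F q) W := by
    intro W hgW hW
    obtain ⟨b, hb⟩ := H950.exists_finrank_eq hrw hgl (inv_of_mem hgW)
    rw [hF, hw3, hW] at hb
    rcases Nat.eq_zero_or_pos b with rfl | hb0
    · have h1 : W ⊓ fx (Matrix.toLin' g.1) = W := Submodule.eq_of_le_of_finrank_eq inf_le_left (by omega)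
      have h2 : W ≤ fx (Matrix.toLin' g.1) := inf_eq_left.1 h1
      have h3 : W = fx (Matrix.toLin' g.1) := Submodule.eq_of_le_of_finrank_eq h2 (by omega)
      rw [h3]
      exact hndf
    · have h1 : finrank F ↥(W ⊓ fx (Matrix.toLin' g.1)) = 0 := by omega
      rw [Submodule.finrank_eq_zero] at h1
      have h2 := le_cm_of_inf_fx hrw hgl (inv_of_mem hgW) h1
      have h3 : W = cm (Matrix.toLin' g.1) := Submodule.eq_of_le_of_finrank_eq h2 (by omega)
      rw [h3]
      exact hndc
  have hGts : ∀ W : Submodule F (Fin (3 + 3) → F), g ∈ subspaceStabilizer W → finrank F W = 3 →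
      ¬ IsTotallySingularFor (hermForm (3 + 3) F q) W := by
    intro W hgW hW hts
    have hnd := hG W hgW hW
    have hW0 : W ≠ ⊥ := by
      rintro rfl
      rw [finrank_bot] at hW
      omega
    obtain ⟨x, hx, hx0⟩ := (Submodule.ne_bot_iff _).1 hW0
    obtain ⟨y, hy, hxy⟩ := hnd x hx hx0
    exact hxy (hts x hx y hy)
  have hsub2 : ∀ (F₀ : Subfield F) (P : GL (Fin (3 + 3)) F), Fintype.card F = Nat.card F₀ ^ 2 →
      g ∈ subfieldSubgroup F₀ P → False := by
    intro F₀ P hc hgX
    have h1 : Nat.card F₀ = q := Nat.pow_left_injective (by norm_num : (2 : ℕ) ≠ 0)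
      (show Nat.card F₀ ^ 2 = q ^ 2 by rw [← hF]; exact hc.symm)
    rcases subfield_fix hgX hw hgw hwF hscal (by rw [h1, ord_six hw (by omega) hwo, Fintype.card_fin]) with h2 | h2
    · rw [h2, finrank_bot] at hgf
      omega
    · apply hcmne
      rw [eq_bot_iff]
      intro x hx
      obtain ⟨y, rfl⟩ := mem_cm.1 hx
      rw [h2, Units.val_one, Matrix.toLin'_one]
      simp
  have hdec : ∀ {t k : ℕ} {D : Fin t → Submodule F (Fin (3 + 3) → F)}, IsMDecomposition k D → 
      v ∣ Nat.card (decompositionStabilizer D ⊓ Cfsg.GU (3 + 3) F q : Subgroup _) → g ∈ decompositionStabilizer D →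
      ((∃ i, IsTotallySingularFor (hermForm (3 + 3) F q) (D i)) ∨
        ∃ i, IsNondegenerateOn (hermForm (3 + 3) F q) (D i)) → False := by
    intro t k D hD hvD hgD hor
    have htk : t * k = 3 + 3 := by rw [H918.decomp_card hD, Fintype.card_fin]
    have ht2 := hD.two_le
    have hk := hD.pos
    have ht6 : t ≤ 6 := by
      have : t ≤ t * k := Nat.le_mul_of_pos_right _ hk
      omega
    obtain ⟨c, hc, hci, hcv, hcf⟩ := hC _ hvD
    have hk3 : k ≤ 3 := by
      have : 2 * k ≤ t * k := Nat.mul_le_mul_right _ ht2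
      omega
    have hD0 : ∀ i, D i ≠ ⊥ := by
      intro i h1
      have := hD.finrank_eq i
      rw [h1, finrank_bot] at this
      omega
    rcases hor with ⟨i, hi⟩ | ⟨i, hi⟩
    · have h1 := hC3 c (D i) hcv hcf (decomp_inv hD hv (by omega) hc hcv i) (hD0 i)
      rw [hD.finrank_eq i] at h1
      exact hGts (D i) (decomp_inv hD hw (by omega) hgD hgw i) (by rw [hD.finrank_eq i]; omega) hi
    · have hcD := decomp_inv hD hv (by omega) hc hcv i
      have h1 := hC3 c (D i) hcv hcf hcD (hD0 i)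
      rw [hD.finrank_eq i] at h1
      have hnd : Nd (hermForm (3 + 3) F q) (D i) := by
        intro u hu hu0
        obtain ⟨v, hv, hv1⟩ := (hi u hu hu0).2
        exact ⟨v, hv, hv1⟩
      have h2 := H950.ord_neg_dvd hF hvq hci (toLin_pow_one hcv) (inv_of_mem hcD) hnd (by rw [hcf, inf_bot_eq])
      rw [hvo, hD.finrank_eq i] at h2
      have := Nat.le_of_dvd hk h2
      omega
  rcases hX with hM | hM | hM | hM
  · rcases hM with hM | hM | hM | hM | hM | hM | hM | hM
    · -- totally singular subspaces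
      obtain ⟨W, hW0, hW, rfl⟩ := hM
      obtain ⟨c, hc, hci, hcv, hcf⟩ := hC _ hvX
      have h1 := hC3 c W hcv hcf hc hW0
      have h2 : 2 * finrank F W ≤ 3 + 3 := by
        have h3 := (H950.frm_herm hF (3 + 3)).two_mul_finrank_le (H950.nd_top hF (3 + 3)) le_top (W := W) hW
        rwa [finrank_top, finrank_fintype_fun_eq_card, Fintype.card_fin] at h3
      exact hGts W hg.1 (by omega) hW
    · -- nondegenerate subspaces
      obtain ⟨W, hW0, hW, hW2, rfl⟩ := hM
      obtain ⟨c, hc, hci, hcv, hcf⟩ := hC _ hvX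
      have h1 := hC3 c W hcv hcf hc hW0
      omega
    · obtain ⟨t, k, D, hD, rfl⟩ := hM
      have ht := hD.decomp.two_le
      exact hdec hD.decomp hvX hg.1 (Or.inr ⟨⟨0, by omega⟩, hD.nondegenerate _⟩)
    · obtain ⟨k, D, hk, hD, hts, rfl⟩ := hM
      exact hdec hD hvX hg.1 (Or.inl ⟨0, hts 0⟩)
    · obtain ⟨F₀, r, P, hr, hro, hc, -, rfl⟩ := hM
      have hr3 : 3 ≤ r := by
        have := hr.two_le
        obtain ⟨k, hk⟩ := hro
        omega
      have hwX : w ∣ Nat.card (subfieldSubgroup F₀ P) := by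
        have h1 : orderOf g = w := by
          apply orderOf_eq_prime hgw
          rintro rfl
          apply hcmne
          rw [eq_bot_iff]
          intro x hx
          obtain ⟨y, rfl⟩ := mem_cm.1 hx
          rw [Units.val_one, Matrix.toLin'_one]
          simp
        rw [← h1, ← Subgroup.orderOf_mk g hg.1]
        exact orderOf_dvd_natCard _
      rcases subfield hw hwF hwX with h1 | h1
      · exact hscal h1
      · rw [Fintype.card_fin] at h1
        obtain ⟨i, hi1, hi2, hi3⟩ := h1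
        rw [hF, hq, ← pow_mul] at hc
        obtain ⟨a, -, ha⟩ := (Nat.dvd_prime_pow hp).1 (show Nat.card F₀ ∣ p ^ (f * 2) by
          rw [hc]; exact dvd_pow_self _ (by omega))
        rw [ha, ← pow_mul] at hc hi3
        have har : f * 2 = a * r := Nat.pow_right_injective hp.two_le hc
        have h4 := (hwiff _).1 hi3
        have ha0 : 0 < a := by
          rcases Nat.eq_zero_or_pos a with rfl | h5
          · omega
          · exact h5
        have h5 : a * (3 * r) ∣ a * i := by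
          have : 2 * 3 * f = a * (3 * r) := by
            calc 2 * 3 * f = 3 * (f * 2) := by ring
              _ = a * (3 * r) := by rw [har]; ring
          rwa [this] at h4
        have h6 := Nat.le_of_dvd (by omega) (Nat.dvd_of_mul_dvd_mul_left ha0 h5)
        omega
    · obtain ⟨F₀, P, -, hc, -, rfl⟩ := hM
      exact hsub2 F₀ P hc hg.1
    · obtain ⟨F₀, P, ζ, -, hc, -, -, -, -, rfl⟩ := hM
      exact hsub2 F₀ P hc hg.1
    · obtain ⟨r, R, p', e, k, hR, habs, -, -, -, hc, rfl⟩ := hM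
      have ht : H920.IsType r k R := by
        rcases hc with ⟨h1, h2, -, h3⟩ | ⟨h1, -, h2, h3⟩
        · exact Or.inl ⟨h1, h2, h3⟩
        · exact Or.inr ⟨h1, h2, h3⟩
      have hcard := H920.card_of_type hR habs ht
      rw [Fintype.card_fin] at hcard
      have h2 : 2 ∣ r ^ k := by rw [← hcard]; norm_num
      have h3 : 3 ∣ r ^ k := by rw [← hcard]; norm_num
      have h4 := (Nat.prime_dvd_prime_iff_eq Nat.prime_two hR.prime).1 (Nat.prime_two.dvd_of_dvd_pow h2)
      have h5 := (Nat.prime_dvd_prime_iff_eq Nat.prime_three hR.prime).1 (Nat.prime_three.dvd_of_dvd_pow h3)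
      omega
  · obtain ⟨r, K, hr, hro, hK, -, rfl⟩ := hM
    have hr3 : r = 3 := by
      have h1 := H912.finrank_dvd_of_fieldSub hK
      rw [Fintype.card_fin] at h1
      have h2 := Nat.le_of_dvd (by norm_num) h1
      obtain ⟨k, hk⟩ := hro
      have h3 := hr.two_le
      have : r = 3 ∨ r = 5 := by omega
      rcases this with h4 | h4
      · exact h4
      · rw [h4] at h1
        omega
    have hco : Nat.Coprime (orderOf g) r := by
      apply Nat.Coprime.coprime_dvd_left (orderOf_dvd_of_pow_eq_one hgw)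
      rw [hr3, Nat.Prime.coprime_iff_not_dvd hw]
      intro h1
      have := Nat.le_of_dvd (by norm_num) h1
      omega
    have h1 := kill_ext hK hg.1 hh.1 hco hcmne hcm
    rw [hhf, hr3] at h1
    omega
  · obtain ⟨n₁, n₂, e, P, f₁, f₂, h2, hlt, -, -, -, rfl⟩ := hM
    have hcard : 3 + 3 = n₁ * n₂ := by
      have := Fintype.card_congr e
      simpa using this
    have hn1 : n₁ = 2 := by
      have h3 : n₁ * (n₁ + 1) ≤ n₁ * n₂ := Nat.mul_le_mul_left _ hlt
      by_contra h4
      have h5 : 3 ≤ n₁ := by omega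
      have h6 : 3 * 4 ≤ n₁ * (n₁ + 1) := Nat.mul_le_mul h5 (by omega)
      omega
    have h1 := tensor_fix hg.1 hw hgw (by
      rw [hn1]
      intro h3
      have h4 := div_of_dvd_card_fin hw hwF h3
      rw [nat_card_eq hF] at h4
      have h5 := ord_le_of_div hqq h4
      omega)
    rw [hgf, hn1] at h1
    omega
  · obtain ⟨k, t, e, P, f₁, hk, ht, -, -, -, rfl⟩ := hM
    have hcard : 3 + 3 = k ^ t := by
      have := Fintype.card_congr e
      simpa using this
    have h4 : k ^ 2 ≤ k ^ t := Nat.pow_le_pow_right (by omega) ht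
    have h5 : 3 * 3 ≤ k ^ 2 := by rw [pow_two]; exact Nat.mul_le_mul hk hk
    omega

end Cfsg.Agent.H680.Cov.SU6
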