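import Cfsg.Agent.H900.SU4.Base
import Cfsg.Agent.H729.CovU
import Cfsg.Agent.S0813
import Cfsg.Agent.S0815
import Cfsg.Prelude.Def_Spor_Mathieu
import Cfsg.Agent.ClassicalGeometry.PSL2Basic

/-!
# S2499, `SU_6(q)`: the residual class (helper680)

`two_primes` : a coatom of `PSU_6(q)`, `q ≥ 3`, in the residual class (hypothesis: S5803), of order divisible by two
distinct primes `r, s ≥ 7` not dividing `q ^ 2 - 1`: these primes divide the order of `Aut (U_3(q))`.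
-/

set_option autoImplicit false
set_option linter.unusedSectionVars false

namespace Cfsg.Agent.H680.Cov.SU6

open Cfsg Cfsg.Geo Cfsg.Agent.H251.GeoU
open scoped Matrix MatrixGroups

universe u

/-- the text of S5803 -/
def R5803 (F : Type u) [Field F] [Fintype F] (q : ℕ) : Prop :=
  ∀ H : Subgroup (Matrix.GeneralLinearGroup (Fin 6) F),
    Cfsg.Geo.IsMaximalIn (Cfsg.GU 6 F q ⊓ Cfsg.Geo.specialLinear (Fin 6) F) H →
    Cfsg.Geo.InUnitaryResidualClass H →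
    ∃ P : Subgroup (Matrix.GeneralLinearGroup (Fin 6) F), Cfsg.Geo.IsResidualCore H P ∧
    ((Nonempty ((P ⧸ (Cfsg.Geo.scalars (Fin 6) F).subgroupOf P) ≃* Matrix.ProjectiveSpecialLinearGroup (Fin 2) (ZMod 11)) ∧ q.Prime ∧ q ≠ 2 ∧ (q % 11 = 2 ∨ q % 11 = 6 ∨ q % 11 = 7 ∨ q % 11 = 8 ∨ q % 11 = 10)) ∨
     (Nonempty ((P ⧸ (Cfsg.Geo.scalars (Fin 6) F).subgroupOf P) ≃* alternatingGroup (Fin 7)) ∧ q.Prime ∧ (q % 24 = 17 ∨ q % 24 = 23)) ∨
     ((∃ (K : Type) (_ : Field K) (_ : Fintype K), Fintype.card K = 4 ∧ Nonempty ((P ⧸ (Cfsg.Geo.scalars (Fin 6) F).subgroupOf P) ≃* Matrix.ProjectiveSpecialLinearGroup (Fin 3) K)) ∧ q.Prime ∧ (q % 24 = 5 ∨ q % 24 = 23)) ∨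
     (Cfsg.Spor.IsoM22 (P ⧸ (Cfsg.Geo.scalars (Fin 6) F).subgroupOf P) ∧ q = 2) ∨
     ((∃ (K : Type) (_ : Field K) (_ : Fintype K), Fintype.card K = 9 ∧ Nonempty ((P ⧸ (Cfsg.Geo.scalars (Fin 6) F).subgroupOf P) ≃* Cfsg.PSU 4 K 3)) ∧ (q = 2 ∨ (q.Prime ∧ (q % 12 = 5 ∨ q % 12 = 11)))) ∨
     (Nonempty ((P ⧸ (Cfsg.Geo.scalars (Fin 6) F).subgroupOf P) ≃* Cfsg.PSU 3 F q) ∧ Odd q))

section

variable {ι : Type} [Fintype ι] [DecidableEq ι] {F : Type u} [Field F] [Fintype F]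

theorem prime_dvd_aut {r : ℕ} (hr : r.Prime) (hrF : ¬ r ∣ Nat.card F - 1) {H P : Subgroup (GL ι F)}
    (h : IsResidualCore H P) (hH : r ∣ Nat.card H) {A : Type*} [Group A]
    (e : (P ⧸ (scalars ι F).subgroupOf P) ≃* A) : r ∣ Nat.card (MulAut A) := by
  have hfr := Fact.mk hr
  obtain ⟨g, hg⟩ := exists_prime_orderOf_dvd_card' r hH
  have hg' : orderOf (g : GL ι F) = r := by rw [Subgroup.orderOf_coe, hg]
  have h1 := H900.SU4.card_dvd_of_core (B := Subgroup.zpowers (g : GL ι F)) h (Subgroup.subtype _) (by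
    intro b
    obtain ⟨k, hk⟩ := Subgroup.mem_zpowers_iff.1 b.2
    change (b : GL ι F) ∈ H
    rw [← hk]
    exact H.zpow_mem g.2 k) (by
    intro b hb
    have hb' : (b : GL ι F) ∈ scalars ι F := hb
    have h2 : orderOf (b : GL ι F) ∣ Nat.card F - 1 := by
      rw [← Subgroup.orderOf_mk (b : GL ι F) hb']
      exact (orderOf_dvd_natCard _).trans H251.GeoCard.card_scalars_dvd
    have h3 : orderOf (b : GL ι F) ∣ r := by
      have h5 := orderOf_dvd_natCard b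
      rwa [Nat.card_zpowers, hg', ← Subgroup.orderOf_coe] at h5
    have h4 : orderOf (b : GL ι F) = 1 := by
      rcases (Nat.dvd_prime hr).1 h3 with h5 | h5
      · exact h5
      · rw [h5] at h2
        exact absurd h2 hrF
    apply Subtype.ext
    exact orderOf_eq_one_iff.1 h4)
  rwa [Nat.card_zpowers, hg', Nat.card_congr (MulAut.congr e).toEquiv] at h1

theorem prime_seven {r N : ℕ} (hr : r.Prime) (hr7 : 7 ≤ r) {a b c d : ℕ} (h : r ∣ N)
    (hN : N ∣ 2 ^ a * 3 ^ b * 5 ^ c * 7 ^ d) : r = 7 := by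
  have h1 := h.trans hN
  rcases hr.dvd_mul.1 h1 with h2 | h2
  · rcases hr.dvd_mul.1 h2 with h2 | h2
    · rcases hr.dvd_mul.1 h2 with h2 | h2
      · have := (Nat.prime_dvd_prime_iff_eq hr Nat.prime_two).1 (hr.dvd_of_dvd_pow h2)
        omega
      · have := (Nat.prime_dvd_prime_iff_eq hr Nat.prime_three).1 (hr.dvd_of_dvd_pow h2)
        omega
    · have := (Nat.prime_dvd_prime_iff_eq hr Nat.prime_five).1 (hr.dvd_of_dvd_pow h2)
      omega
  · exact (Nat.prime_dvd_prime_iff_eq hr (by norm_num)).1 (hr.dvd_of_dvd_pow h2)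

theorem aut_l211 {r : ℕ} (hr : r.Prime) (hr7 : 7 ≤ r)
    (h : r ∣ Nat.card (MulAut (Matrix.ProjectiveSpecialLinearGroup (Fin 2) (ZMod 11)))) : r = 11 := by
  have h11 : Fact (Nat.Prime 11) := ⟨by norm_num⟩
  rw [S0813.result 11 1 le_rfl (by rw [ZMod.card, pow_one]) 2 le_rfl (fun _ => by norm_num), if_pos rfl, one_mul,
    one_mul, ClassicalGeometry.PSL2Basic.card_PGL2, ZMod.card] at h
  have h1 : r ∣ (2 ^ 3 * 3 ^ 1 * 5 ^ 1) * 11 := by
    have : (11 * (11 ^ 2 - 1) : ℕ) = (2 ^ 3 * 3 ^ 1 * 5 ^ 1) * 11 := by norm_num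
    rwa [this] at h
  rcases hr.dvd_mul.1 h1 with h2 | h2
  · have := prime_seven (a := 3) (b := 1) (c := 1) (d := 0) hr hr7 h2 (by norm_num)
    subst this
    norm_num at h2
  · exact (Nat.prime_dvd_prime_iff_eq hr (by norm_num)).1 h2

theorem aut_a7 {r : ℕ} (hr : r.Prime) (hr7 : 7 ≤ r) (h : r ∣ Nat.card (MulAut (alternatingGroup (Fin 7)))) : r = 7 :=
  prime_seven (a := 4) (b := 2) (c := 1) (d := 1) hr hr7 h (H900.SU4.card_mulAut_alt_seven.trans (by norm_num))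

theorem aut_l34 {r : ℕ} (hr : r.Prime) (hr7 : 7 ≤ r) {K : Type} [Field K] [Fintype K] (hK : Fintype.card K = 4)
    (h : r ∣ Nat.card (MulAut (Matrix.ProjectiveSpecialLinearGroup (Fin 3) K))) : r = 7 := by
  have h2 : Fact (Nat.Prime 2) := ⟨Nat.prime_two⟩
  have h1 := S0813.result (F := K) 2 2 (by norm_num) (by rw [hK]; norm_num) 3 (by norm_num) (by norm_num)
  rw [h1] at h
  have h3 : Nat.card (Matrix.ProjGenLinGroup (Fin 3) K) ∣ 181440 := by
    have h4 : Nat.card (Matrix.ProjGenLinGroup (Fin 3) K) ∣ Nat.card (GL (Fin 3) K) := Subgroup.card_quotient_dvd_card _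
    refine h4.trans ?_
    rw [Matrix.card_GL_field, hK, Fin.prod_univ_three]
    norm_num
  refine prime_seven (a := 20) (b := 10) (c := 3) (d := 2) hr hr7 h ?_
  rw [if_neg (by norm_num)]
  refine (Nat.mul_dvd_mul_left _ h3).trans ?_
  norm_num

theorem aut_u43 {r : ℕ} (hr : r.Prime) (hr7 : 7 ≤ r) {K : Type} [Field K] [Fintype K] (hK : Fintype.card K = 9)
    (h : r ∣ Nat.card (MulAut (Cfsg.PSU 4 K 3))) : r = 7 := by
  have h3 : Fact (Nat.Prime 3) := ⟨Nat.prime_three⟩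
  have hK' : Fintype.card K = 3 ^ 2 := by rw [hK]; norm_num
  rw [S0815.result 3 1 le_rfl (by norm_num) hK' 4 (by norm_num) (by norm_num)] at h
  have h1 := S0280.result hK' 4 (by norm_num)
  simp [Finset.prod_range_succ, Nat.even_iff] at h1
  have h2 : Nat.card (Cfsg.PSU 4 K 3) = 3265920 := by omega
  rw [h2] at h
  exact prime_seven (a := 12) (b := 6) (c := 1) (d := 1) hr hr7 h (by norm_num)

end

section

variable {F : Type u} [Field F] [Fintype F] {q : ℕ}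

/-- primes dividing the order of `Aut (U_3(q))` -/
theorem aut_u3 (hF : Fintype.card F = q ^ 2) (hq3 : 3 ≤ q) {p f : ℕ} (hp : p.Prime) (hq : q = p ^ f) (hf : 1 ≤ f)
    {r i : ℕ} (hr : r.Prime) (hr7 : 7 ≤ r) (hi : orderOf (-(q : ZMod r)) = i) (hi4 : 4 ≤ i) (hrf : ¬ r ∣ f)
    (h : r ∣ Nat.card (MulAut (Cfsg.PSU 3 F q))) : False := by
  have hfr := Fact.mk hr
  have hfp := Fact.mk hp
  have hrq := not_dvd_of_ord hr hi (by omega)
  rw [S0815.result p f hf hq hF 3 le_rfl (by omega)] at h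
  have h1 := S0280.result hF 3 (by norm_num)
  simp only [Finset.prod_range_succ, Finset.prod_range_zero, one_mul, Nat.even_iff] at h1
  norm_num at h1
  have h3 : r ∣ q ^ 3 * ((q + 1) * (q ^ 2 - 1) * (q ^ 3 + 1)) ∨ r ∣ f := by
    rcases hr.dvd_mul.1 h with h2 | h2
    · rcases hr.dvd_mul.1 h2 with h2 | h2
      · have h4 := (h2.trans (Nat.gcd_dvd_left _ _))
        have := Nat.le_of_dvd (by norm_num) h4
        omega
      · rcases hr.dvd_mul.1 h2 with h2 | h2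
        · have := Nat.le_of_dvd (by norm_num) h2
          omega
        · exact Or.inr h2
    · left
      rw [← h1]
      exact Dvd.dvd.mul_left (Dvd.dvd.mul_left h2 _) _
  have hord : ∀ k : ℕ, (-(q : ZMod r)) ^ k = 1 → 1 ≤ k → k ≤ 3 → False := by
    intro k hk hk1 hk3
    have h4 := Nat.le_of_dvd (by omega) (orderOf_dvd_of_pow_eq_one hk)
    omega
  rcases h3 with h3 | h3
  · rcases hr.dvd_mul.1 h3 with h2 | h2
    · exact hrq (hr.dvd_of_dvd_pow h2)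
    · rcases hr.dvd_mul.1 h2 with h2 | h2
      · rcases hr.dvd_mul.1 h2 with h2 | h2
        · apply hord 1 _ le_rfl (by norm_num)
          have h4 : ((q + 1 : ℕ) : ZMod r) = 0 := (ZMod.natCast_eq_zero_iff _ _).2 h2
          push_cast at h4
          linear_combination (-1 : ZMod r) * h4
        · apply hord 2 _ (by norm_num) (by norm_num)
          have h4 : ((q ^ 2 - 1 : ℕ) : ZMod r) = 0 := (ZMod.natCast_eq_zero_iff _ _).2 h2
          rw [Nat.cast_sub (Nat.one_le_pow _ _ (by omega))] at h4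
          push_cast at h4
          linear_combination h4
      · apply hord 3 _ (by norm_num) le_rfl
        have h4 : ((q ^ 3 + 1 : ℕ) : ZMod r) = 0 := (ZMod.natCast_eq_zero_iff _ _).2 h2
        push_cast at h4
        linear_combination (-1 : ZMod r) * h4
  · exact hrf h3

theorem two_primes (hR : R5803 F q) (hq3 : 3 ≤ q) {M : Subgroup (PSU 6 F q)}
    (hM : IsCoatom M) (hres : InUnitaryResidualClass (pre M)) {r s : ℕ} (hr : r.Prime) (hr7 : 7 ≤ r) (hs : s.Prime)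
    (hs7 : 7 ≤ s) (hrs : r ≠ s) (hrF : ¬ r ∣ Nat.card F - 1) (hsF : ¬ s ∣ Nat.card F - 1) (hrM : r ∣ Nat.card M)
    (hsM : s ∣ Nat.card M) : r ∣ Nat.card (MulAut (Cfsg.PSU 3 F q)) ∧ s ∣ Nat.card (MulAut (Cfsg.PSU 3 F q)) := by
  have hrM' := hrM.trans (card_dvd_pre M)
  have hsM' := hsM.trans (card_dvd_pre M)
  obtain ⟨P, hc, h | h | h | h | h | h⟩ := hR _ (H729.CovU.isMaximalIn_pre hM) hres
  · obtain ⟨⟨e⟩, -⟩ := h
    exfalso
    apply hrs
    rw [aut_l211 hr hr7 (prime_dvd_aut hr hrF hc hrM' e), aut_l211 hs hs7 (prime_dvd_aut hs hsF hc hsM' e)]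
  · obtain ⟨⟨e⟩, -⟩ := h
    exfalso
    apply hrs
    rw [aut_a7 hr hr7 (prime_dvd_aut hr hrF hc hrM' e), aut_a7 hs hs7 (prime_dvd_aut hs hsF hc hsM' e)]
  · obtain ⟨⟨K, _, _, hK, ⟨e⟩⟩, -⟩ := h
    exfalso
    apply hrs
    rw [aut_l34 hr hr7 hK (prime_dvd_aut hr hrF hc hrM' e), aut_l34 hs hs7 hK (prime_dvd_aut hs hsF hc hsM' e)]
  · obtain ⟨-, h2⟩ := h
    omega
  · obtain ⟨⟨K, _, _, hK, ⟨e⟩⟩, -⟩ := h
    exfalso
    apply hrs
    rw [aut_u43 hr hr7 hK (prime_dvd_aut hr hrF hc hrM' e), aut_u43 hs hs7 hK (prime_dvd_aut hs hsF hc hsM' e)]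
  · obtain ⟨⟨e⟩, -⟩ := h
    exact ⟨prime_dvd_aut hr hrF hc hrM' e, prime_dvd_aut hs hsF hc hsM' e⟩

end

end Cfsg.Agent.H680.Cov.SU6
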