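import Cfsg.Agent.H680.Cov.SU6.Elt
import Cfsg.Agent.H680.Cov.SU6.Geo
import Cfsg.Agent.H680.Cov.SU6.Res

/-!
# S2499: `PSU_6(q)`, `q ≥ 3`, is not the union of the conjugates of two proper subgroups (helper680, task 3951)

`noTwo_psu_six` : hypothesis `R5803 F q` (the text of S5803).
-/

set_option autoImplicit false
set_option linter.unusedSectionVars false

namespace Cfsg.Agent.H680.Cov.SU6

open Cfsg Cfsg.Geo Module Cfsg.Agent.H951 Cfsg.Agent.H251.GeoU Cfsg.Agent.H251.GeoCard
open Cfsg.Agent.H729.CovU (L L_isom L_injective geo_over_pre)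
open Cfsg.Agent.H278.Cov
open scoped Matrix MatrixGroups

universe u

variable {F : Type u} [Field F] [Fintype F] {q : ℕ}

/-- conjugates of coatoms -/
theorem isCoatom_conj {G : Type*} [Group G] {H : Subgroup G} (hH : IsCoatom H) (g : G) :
    IsCoatom (H.map (MulAut.conj g).toMonoidHom) :=
  (OrderIso.isCoatom_iff (MulEquiv.mapSubgroup (MulAut.conj g)) H).2 hH

theorem card_conj {G : Type*} [Group G] (H : Subgroup G) (g : G) :
    Nat.card (H.map (MulAut.conj g).toMonoidHom) = Nat.card H :=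
  (Nat.card_congr (Subgroup.equivMapOfInjective _ _ (MulAut.conj g).injective).toEquiv).symm

/-- it suffices to consider coatoms which contain `b` -/
theorem inc_of_mem {G : Type*} [Group G] [Finite G] {b c : G} {s : ℕ} (hc : orderOf c = s)
    (h : ∀ H : Subgroup G, IsCoatom H → b ∈ H → ¬ s ∣ Nat.card H) : Inc b c := by
  apply inc_of_coatom
  intro H hH
  by_contra hcon
  push Not at hcon
  obtain ⟨h1, h2⟩ := hcon
  obtain ⟨g, hg⟩ := not_av h1
  have h3 : s ∣ Nat.card H := by
    by_contra h4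
    exact h2 (av_of_card (by rwa [hc]))
  refine h (H.map (MulAut.conj g⁻¹).toMonoidHom) (isCoatom_conj hH _) ?_ (by rwa [card_conj])
  refine ⟨g * b * g⁻¹, hg, ?_⟩
  change g⁻¹ * (g * b * g⁻¹) * g⁻¹⁻¹ = b
  group

theorem noTwo_psu_six (hF : Fintype.card F = q ^ 2) (hq3 : 3 ≤ q) (hR : R5803 F q) : NoTwo (PSU 6 F q) := by
  classical
  obtain ⟨p, f, hp, hf, hq, -⟩ := exists_prime_power hF
  -- the primes
  obtain ⟨u, hu, huiff, hu1, huo⟩ := exists_big (m := 5) hp hf (by norm_num) ⟨2, rfl⟩ (by norm_num)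
  obtain ⟨w, hw, hwiff, hw1, hwo⟩ := exists_big (m := 3) hp hf (by norm_num) ⟨1, rfl⟩ (by
    rintro ⟨-, h⟩
    omega)
  rw [← hq] at huo hwo
  obtain ⟨v, hv, hvo, hvf, -, -⟩ := H149.NegPrime.exists_neg_prime (i := 6) hp hq hf (by norm_num) (by norm_num)
  have huf : 11 ≤ u ∧ f < u := by
    have h1 := Nat.le_of_dvd (by have := hu.two_le; omega) hu1
    omega
  have hwf : 7 ≤ w := by
    have h1 := Nat.le_of_dvd (by have := hw.two_le; omega) hw1
    omega
  have hv7 : 7 ≤ v := by
    have h1 := Nat.le_of_dvd (by have := hv.two_le; omega) (dvd_pred_of_ord hv hvo (by norm_num))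
    omega
  have huf' : ¬ u ∣ f := fun h => by
    have := Nat.le_of_dvd (by omega) h
    omega
  have huv : u ≠ v := by rintro rfl; omega
  have huw : u ≠ w := by rintro rfl; omega
  have hvw : v ≠ w := by rintro rfl; omega
  have hqq := Nat.one_le_pow 2 q (LieClassical.HermBasic.q_pos hF)
  have hscal : ∀ {s m : ℕ}, s.Prime → orderOf (-(q : ZMod s)) = m → 3 ≤ m → ¬ s ∣ Nat.card F - 1 := by
    intro s m hs hm hm3 h1
    have h2 : Div s (q ^ 2) 1 := div_one le_rfl (by rwa [← nat_card_eq hF])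
    have h3 := ord_le_of_div hqq h2
    rw [ord_sq, hm] at h3
    have h4 : Nat.gcd m 2 ≤ 2 := Nat.gcd_le_right _ (by norm_num)
    have h5 : 0 < Nat.gcd m 2 := Nat.gcd_pos_of_pos_right _ (by norm_num)
    rcases (show Nat.gcd m 2 = 1 ∨ Nat.gcd m 2 = 2 by omega) with h6 | h6
    · rw [h6, Nat.div_one] at h3
      omega
    · rw [h6] at h3
      have h7 : 2 ∣ m := by rw [← h6]; exact Nat.gcd_dvd_left _ _
      omega
  have huF := hscal hu huo (by norm_num)
  have hvF := hscal hv hvo (by norm_num)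
  have hwF := hscal hw hwo (by norm_num)
  have hfu := Fact.mk hu
  have hfv := Fact.mk hv
  have hfw := Fact.mk hw
  have hwq := not_dvd_of_ord hw hwo (by norm_num)
  have hrw := natCast_ne hF hw hwq
  have hw3 : orderOf ((q ^ 2 : ℕ) : ZMod w) = 3 := ord_sq_odd hwo ⟨1, rfl⟩
  -- the residual class
  have res_uv : ∀ M : Subgroup (PSU 6 F q), IsCoatom M → InUnitaryResidualClass (pre M) → u ∣ Nat.card M →
      v ∣ Nat.card M → False := fun M hM hres h1 h2 =>
    aut_u3 hF hq3 hp hq hf hu (by omega) huo (by norm_num) huf'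
      (two_primes hR hq3 hM hres hu (by omega) hv hv7 huv huF hvF h1 h2).1
  have res_uw : ∀ M : Subgroup (PSU 6 F q), IsCoatom M → InUnitaryResidualClass (pre M) → u ∣ Nat.card M →
      w ∣ Nat.card M → False := fun M hM hres h1 h2 =>
    aut_u3 hF hq3 hp hq hf hu (by omega) huo (by norm_num) huf'
      (two_primes hR hq3 hM hres hu (by omega) hw hwf huw huF hwF h1 h2).1
  have res_vw : ∀ M : Subgroup (PSU 6 F q), IsCoatom M → InUnitaryResidualClass (pre M) → v ∣ Nat.card M →
      w ∣ Nat.card M → False := fun M hM hres h1 h2 =>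
    aut_u3 hF hq3 hp hq hf hv (by omega) hvo (by norm_num) hvf
      (two_primes hR hq3 hM hres hv hv7 hw hwf hvw hvF hwF h1 h2).1
  -- subgroups of order divisible by `u`
  have hover : ∀ M : Subgroup (PSU (3 + 3) F q), IsCoatom M → u ∣ Nat.card M →
      (∃ W : Submodule F (Fin (3 + 3) → F), IsNondegenerateOn (hermForm (3 + 3) F q) W ∧ finrank F W = 1 ∧
        pre M ≤ subspaceStabilizer W) ∨ InUnitaryResidualClass (pre M) := by
    intro M hM huM
    rcases geo_over_pre (n := 3 + 3) hF hp hq hf hu huiff huo ⟨2, rfl⟩ (by norm_num) (by norm_num) (by omega) hM.1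
      huM with ⟨W, h1, h2, h3, h4⟩ | ⟨W, h1, h2, h3, h4, h5⟩ | ⟨r, K, h1, h2, h3, h4, h5, h6⟩ | h
    · exfalso
      apply h1
      rw [← Submodule.finrank_eq_zero (R := F)]
      omega
    · left
      refine ⟨W, h2, ?_, h5⟩
      have h6 : finrank F W ≠ 0 := fun h => h1 ((Submodule.finrank_eq_zero (R := F)).1 h)
      omega
    · exfalso
      have h7 := (Nat.prime_dvd_prime_iff_eq h1 Nat.prime_five).1 h4
      subst h7
      norm_num at h3
    · exact Or.inr h
  -- the elements
  obtain ⟨a, ha⟩ := exists_prime_orderOf_dvd_card' u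
    (H149.PGU.dvd_card_psu (n := 3 + 3) hF (by norm_num) hu (by norm_num) (by norm_num) huo)
  obtain ⟨c, hc⟩ := exists_prime_orderOf_dvd_card' v
    (H149.PGU.dvd_card_psu (n := 3 + 3) hF (by norm_num) hv (by norm_num) (by norm_num) hvo)
  obtain ⟨b, g, h, ⟨i, hi⟩, ⟨j, hj⟩, hgw, hgc, hgf, hhf, hcm, hiso⟩ := exists_b hF hw hwo
  let π := QuotientGroup.mk' (Subgroup.center (SU (3 + 3) F q))
  have hgM : ∀ M : Subgroup (PSU (3 + 3) F q), π b ∈ M → H918.suHom (3 + 3) F q g ∈ pre M := by
    intro M hM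
    refine ⟨g, ?_, rfl⟩
    change π g ∈ M
    rw [← hi, map_pow]
    exact M.pow_mem hM i
  have hhM : ∀ M : Subgroup (PSU (3 + 3) F q), π b ∈ M → H918.suHom (3 + 3) F q h ∈ pre M := by
    intro M hM
    refine ⟨h, ?_, rfl⟩
    change π h ∈ M
    rw [← hj, map_pow]
    exact M.pow_mem hM j
  have hwM : ∀ M : Subgroup (PSU (3 + 3) F q), π b ∈ M → w ∣ Nat.card M := by
    intro M hM
    have h1 : orderOf (π g) = w := by
      apply orderOf_eq_prime
      · rw [← map_pow, hgw, map_one]
      · intro h2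
        exact hgc ((QuotientGroup.eq_one_iff _).1 h2)
    have h2 : π g ∈ M := by
      rw [← hi, map_pow]
      exact M.pow_mem hM i
    rw [← h1, ← Subgroup.orderOf_mk (π g) h2]
    exact orderOf_dvd_natCard _
  have hGw : (H918.suHom (3 + 3) F q g) ^ w = 1 := by rw [← map_pow, hgw, map_one]
  -- `a`, `b`
  have inc_ba : Inc (π b) a := by
    apply inc_of_mem ha
    intro M hM hbM huM
    rcases hover M hM huM with ⟨W, hW, hW1, hle⟩ | hres
    · have hWf : W ≤ fx (L (3 + 3) F q g) := by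
        refine le_fx hrw ?_ (inv_of_mem (hle (hgM M hbM))) ?_
        · rw [← map_pow, hgw, map_one]
        · rw [hF, hw3, hW1]
          norm_num
      obtain ⟨x, hx0, hx⟩ := finrank_eq_one_iff'.1 hW1
      have hx0' : (x : Fin (3 + 3) → F) ≠ 0 := fun h => hx0 (Subtype.ext h)
      have hhx : L (3 + 3) F q h x ∈ W := inv_of_mem (hle (hhM M hbM)) _ x.2
      obtain ⟨k, hk⟩ := hx ⟨_, hhx⟩
      have hk' : L (3 + 3) F q h x = k • (x : Fin (3 + 3) → F) := by
        have := congrArg Subtype.val hk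
        exact this.symm
      have h1 := hiso x (hWf x.2) hx0' k hk'
      obtain ⟨-, y, hy, hxy⟩ := hW x x.2 hx0'
      obtain ⟨l, hl⟩ := hx ⟨y, hy⟩
      have hl' : y = l • (x : Fin (3 + 3) → F) := by
        have := congrArg Subtype.val hl
        exact this.symm
      apply hxy
      rw [hl', LieClassical.HermBasic.herm_smul_right, h1, mul_zero]
    · exact res_uw M hM hres huM (hwM M hbM)
  -- `a`, `c`
  have inc_ca : Inc c a := by
    apply inc_of_mem ha
    intro M hM hcM huM
    have hvM : v ∣ Nat.card M := by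
      rw [← hc, ← Subgroup.orderOf_mk c hcM]
      exact orderOf_dvd_natCard _
    rcases hover M hM huM with ⟨W, hW, hW1, hle⟩ | hres
    · refine kill_point hF hv hvo ⟨3, rfl⟩ (by norm_num) hW1 ?_
      refine (hvM.trans (card_dvd_pre M)).trans (Subgroup.card_dvd_of_le (le_inf hle ?_))
      exact (pre_le M).trans inf_le_left
    · exact res_uv M hM hres huM hvM
  -- `b`, `c`
  have inc_bc : Inc (π b) c := by
    apply inc_of_mem hc
    intro M hM hbM hvM
    rcases S5663.result (F := F) (3 + 3) q hF (by norm_num) (by norm_num) (pre M) (pre_le M) (pre_proper M hM.1) with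
      ⟨X, hX, hle⟩ | hres
    · refine geo_bc hF hp hq hf hv hv7 hvo hw hwf hwiff hwo hX
        ((hvM.trans (card_dvd_pre M)).trans (Subgroup.card_dvd_of_le hle)) (hle (hgM M hbM)) (hle (hhM M hbM))
        (L_isom g) hGw hgf hhf ?_
      intro x hx
      exact hcm x hx
    · exact res_vw M hM hres hvM (hwM M hbM)
  exact noTwo_of_three inc_bc inc_ca inc_ba

end Cfsg.Agent.H680.Cov.SU6
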