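import Cfsg.Agent.H680.Cov.SU6.Kill
import Cfsg.Agent.H729.CovU
import Cfsg.Agent.LieClassical.HermSiegel

/-!
# S2499, `SU_6(q)`: the element `b = x + y`, `x` of prime order `w` in `SU_3(q)` (`-q` has order three modulo `w`), `y`
a regular unipotent element of `SU_3(q)` (helper680)
-/

set_option autoImplicit false
set_option linter.unusedSectionVars false

namespace Cfsg.Agent.H680.Cov.SU6

open Cfsg Cfsg.Geo Module Cfsg.Agent.H951 Cfsg.Agent.H251.GeoU Cfsg.Agent.H251.GeoCard
open Cfsg.Agent.LieClassical.HermBasic Cfsg.Agent.LieClassical.HermSiegel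
open Cfsg.Agent.H729.CovU (L L_isom L_injective L_blk_inl L_blk_inr eq_zero_of_fix exists_orderOf)
open Cfsg.Agent.H494.PSURow (blk blk_injective eq_one_left eq_one_right)
open scoped Matrix MatrixGroups

variable {F : Type*} [Field F] [Fintype F] {q : ℕ}

theorem L_act {n : ℕ} (x : SU n F q) (v : Fin n → F) : L n F q x v = act x v := by
  rw [H729.CovU.L_apply]; rfl

theorem mat_pow {n : ℕ} (x : SU n F q) (k : ℕ) : mat (x ^ k) = mat x ^ k := by
  induction k with
  | zero => rw [pow_zero, pow_zero, mat_one]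
  | succ k ih => rw [pow_succ, pow_succ, mat_mul, ih]

theorem unipotent_pow {n : ℕ} (hn : 0 < n) (h3 : 3 ≤ Fintype.card F) (M : Matrix (Fin n) (Fin n) F)
    (h : (M - 1) * (M - 1) * (M - 1) = 0) : M ^ Fintype.card F = 1 := by
  obtain ⟨p, hp⟩ := CharP.exists F
  obtain ⟨k, hprime, hcard⟩ := FiniteField.card F p
  have := Fact.mk hprime
  have : Nonempty (Fin n) := ⟨⟨0, hn⟩⟩
  have hc : (M - 1) ^ Fintype.card F = M ^ Fintype.card F - 1 := by
    rw [hcard]
    have := sub_pow_char_pow_of_commute (R := Matrix (Fin n) (Fin n) F) (p := p) (n := (k : ℕ))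
      (Commute.one_right M)
    rw [this, one_pow]
  have h0 : (M - 1) ^ Fintype.card F = 0 := by
    obtain ⟨m, hm⟩ := Nat.exists_eq_add_of_le h3
    rw [hm, pow_add, pow_succ, pow_two, h, zero_mul]
  rw [h0] at hc
  exact sub_eq_zero.1 hc.symm

theorem siegel_pow {n : ℕ} (hn : 0 < n) (hF : Fintype.card F = q ^ 2) {u w : Fin n → F} {μ : F}
    (h : IsSiegel q u w μ) : (siegel hF u w μ h) ^ Fintype.card F = 1 := by
  have h2 := two_le hF
  apply mat_injective
  rw [mat_pow, mat_one]
  apply unipotent_pow hn (by rw [hF]; nlinarith)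
  show (siegelMat q u w μ - 1) * (siegelMat q u w μ - 1) * (siegelMat q u w μ - 1) = 0
  apply Matrix.ext_of_mulVec_single
  intro i
  set e : Fin n → F := Pi.single i 1
  have key : ∀ v : Fin n → F, (siegelMat q u w μ - 1) *ᵥ v =
      hermForm n F q v u • w + (μ * hermForm n F q v u - hermForm n F q v w) • u := by
    intro v
    rw [Matrix.sub_mulVec, siegelMat_mulVec, Matrix.one_mulVec]
    abel
  rw [Matrix.zero_mulVec, ← Matrix.mulVec_mulVec, ← Matrix.mulVec_mulVec, key e, key, key]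
  simp only [herm_add_left, herm_smul_left, h.iso, h.orth, h.orth' hF, mul_zero, add_zero,
    zero_sub, zero_smul, zero_add, sub_self]

/-- a regular unipotent element of `SU_3(q)` -/
theorem exists_y (hF : Fintype.card F = q ^ 2) : ∃ y : SU 3 F q, y ^ Fintype.card F = 1 ∧
    finrank F (fx (L 3 F q y)) = 1 ∧ ∀ (v : Fin 3 → F) (c : F), v ≠ 0 → L 3 F q y v = c • v → hermForm 3 F q v v = 0 := by
  obtain ⟨ζ, hζ⟩ := exists_norm_eq hF (c := -1) (by rw [neg_pow_q hF, one_pow])
  obtain ⟨μ, hμ⟩ := exists_trace_eq hF (c := -1) (by rw [neg_pow_q hF, one_pow])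
  have hq := q_pos hF
  have hq0 : (0 : F) ^ q = 0 := zero_pow_q hF
  have hu : ∀ v : Fin 3 → F, hermForm 3 F q v ![1, ζ, 0] = v 0 + v 1 * ζ ^ q := by
    intro v
    rw [herm_def, Fin.sum_univ_three]
    simp [hq.ne']
  have hw : ∀ v : Fin 3 → F, hermForm 3 F q v ![0, 0, 1] = v 2 := by
    intro v
    rw [herm_def, Fin.sum_univ_three]
    simp [hq.ne']
  have hS : IsSiegel q (![1, ζ, 0] : Fin 3 → F) ![0, 0, 1] μ := by
    refine ⟨?_, ?_, ?_⟩
    · rw [hu]
      change (1 : F) + ζ * ζ ^ q = 0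
      rw [hζ]; ring
    · rw [hu]
      change (0 : F) + 0 * ζ ^ q = 0
      ring
    · rw [hw]
      change μ + μ ^ q + 1 = 0
      rw [hμ]; ring
  have hfix : ∀ v : Fin 3 → F, L 3 F q (siegel hF _ _ μ hS) v = v → ∃ c : F, v = c • ![1, ζ, 0] := by
    intro v hv
    rw [L_act, act_siegel, add_assoc, add_eq_left, hu, hw] at hv
    have h0 := congrFun hv 0
    have h2 := congrFun hv 2
    simp only [Pi.add_apply, Pi.smul_apply, Pi.zero_apply, smul_eq_mul, Matrix.cons_val_zero, Matrix.cons_val,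
      mul_zero, mul_one, zero_add, add_zero] at h0 h2
    rw [h2, mul_zero, zero_sub, neg_eq_zero] at h0
    refine ⟨v 0, ?_⟩
    funext i
    fin_cases i
    · simp
    · have : v 1 = v 0 * ζ := by linear_combination (-ζ) * h2 + v 1 * hζ
      simpa using this
    · simpa using h0
  refine ⟨siegel hF _ _ μ hS, siegel_pow (by norm_num) hF hS, ?_, ?_⟩
  · have h1 : fx (L 3 F q (siegel hF _ _ μ hS)) = Submodule.span F {![1, ζ, 0]} := by
      apply le_antisymm
      · intro v hv
        obtain ⟨c, hc⟩ := hfix v (mem_fx.1 hv)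
        rw [hc]
        exact Submodule.smul_mem _ _ (Submodule.mem_span_singleton_self _)
      · rw [Submodule.span_singleton_le_iff_mem, mem_fx, L_act]
        exact act_siegel_self hF hS
    rw [h1, finrank_span_singleton]
    intro h
    have := congrFun h 0
    simp at this
  · intro v c hv0 hv
    have hv' := hv
    rw [L_act, act_siegel] at hv'
    have key : ∀ z : Fin 3 → F, hermForm 3 F q z ![1, ζ, 0] = hermForm 3 F q z ![1, ζ, 0] := fun _ => rfl
    have ha := congrArg (fun z => hermForm 3 F q z ![1, ζ, 0]) hv'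
    simp only [herm_add_left, herm_smul_left, hS.iso, hS.orth, mul_zero, add_zero] at ha
    have hb := congrArg (fun z => hermForm 3 F q z ![0, 0, 1]) hv'
    have hc1 : c = 1 := by
      by_contra hc
      have hc' : (1 - c) ≠ 0 := sub_ne_zero.2 (Ne.symm hc)
      have ha0 : hermForm 3 F q v ![1, ζ, 0] = 0 := by
        have : (1 - c) * hermForm 3 F q v ![1, ζ, 0] = 0 := by linear_combination ha
        exact (mul_eq_zero.1 this).resolve_left hc'
      simp only [herm_add_left, herm_smul_left, hS.orth' hF, ha0, mul_zero, add_zero, zero_mul] at hb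
      have hb0 : hermForm 3 F q v ![0, 0, 1] = 0 := by
        have : (1 - c) * hermForm 3 F q v ![0, 0, 1] = 0 := by linear_combination hb
        exact (mul_eq_zero.1 this).resolve_left hc'
      rw [ha0, hb0, mul_zero, sub_zero, zero_smul, zero_smul, add_zero, add_zero] at hv'
      apply hv0
      have : (1 - c) • v = 0 := by rw [sub_smul, one_smul, ← hv', sub_self]
      exact (smul_eq_zero.1 this).resolve_left hc'
    rw [hc1, one_smul] at hv
    obtain ⟨k, hk⟩ := hfix v hv
    rw [hk, herm_smul_left, herm_smul_right, hS.iso, mul_zero, mul_zero]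

theorem L_one_fx {n : ℕ} : fx (L n F q 1) = ⊤ := by
  rw [eq_top_iff]
  intro v _
  rw [mem_fx, map_one]
  rfl

/-- the fixed space of a block diagonal element -/
noncomputable def fxBlk {k l : ℕ} (x : SU k F q) (y : SU l F q) :
    fx (L (k + l) F q (blk k l F q (x, y))) ≃ₗ[F] fx (L k F q x) × fx (L l F q y) where
  toFun v := (⟨fun j => v.1 (finSumFinEquiv (.inl j)), by
      rw [mem_fx]
      funext i
      rw [← L_blk_inl x y v.1 i, mem_fx.1 v.2]⟩, ⟨fun j => v.1 (finSumFinEquiv (.inr j)), by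
      rw [mem_fx]
      funext i
      rw [← L_blk_inr x y v.1 i, mem_fx.1 v.2]⟩)
  map_add' v w := rfl
  map_smul' c v := rfl
  invFun p := ⟨fun i => Sum.elim p.1.1 p.2.1 (finSumFinEquiv.symm i), by
    rw [mem_fx]
    funext i
    obtain ⟨j | j, rfl⟩ := finSumFinEquiv.surjective i
    · rw [L_blk_inl]
      simp only [Equiv.symm_apply_apply, Sum.elim_inl]
      exact congrFun (mem_fx.1 p.1.2) j
    · rw [L_blk_inr]
      simp only [Equiv.symm_apply_apply, Sum.elim_inr]
      exact congrFun (mem_fx.1 p.2.2) j⟩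
  left_inv v := by
    apply Subtype.ext
    funext i
    obtain ⟨j | j, rfl⟩ := finSumFinEquiv.surjective i
    · simp
    · simp
  right_inv p := by
    apply Prod.ext
    · apply Subtype.ext
      funext i
      simp
    · apply Subtype.ext
      funext i
      simp

theorem finrank_fx_blk {k l : ℕ} (x : SU k F q) (y : SU l F q) :
    finrank F (fx (L (k + l) F q (blk k l F q (x, y)))) = finrank F (fx (L k F q x)) + finrank F (fx (L l F q y)) := by
  rw [(fxBlk x y).finrank_eq, finrank_prod]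

theorem herm_blk {k m : ℕ} (a b : Fin (k + m) → F) : hermForm (k + m) F q a b =
    hermForm k F q (fun i => a (finSumFinEquiv (.inl i))) (fun i => b (finSumFinEquiv (.inl i))) +
      hermForm m F q (fun i => a (finSumFinEquiv (.inr i))) (fun i => b (finSumFinEquiv (.inr i))) := by
  rw [hermForm, ← Equiv.sum_comp finSumFinEquiv, Fintype.sum_sum_type]
  rfl

/-- the element `b`, and its parts `g`, `h` -/
theorem exists_b (hF : Fintype.card F = q ^ 2) {w : ℕ} (hw : w.Prime) (hwo : orderOf (-(q : ZMod w)) = 3) :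
    ∃ b g h : SU (3 + 3) F q, (∃ i : ℕ, b ^ i = g) ∧ (∃ i : ℕ, b ^ i = h) ∧ g ^ w = 1 ∧
      g ∉ Subgroup.center (SU (3 + 3) F q) ∧ finrank F (fx (L (3 + 3) F q g)) = 3 ∧
      finrank F (fx (L (3 + 3) F q h)) = 4 ∧ (∀ v ∈ cm (L (3 + 3) F q g), L (3 + 3) F q h v = v) ∧
      ∀ v ∈ fx (L (3 + 3) F q g), v ≠ 0 → ∀ c : F, L (3 + 3) F q h v = c • v → hermForm (3 + 3) F q v v = 0 := by
  have hfw := Fact.mk hw
  obtain ⟨y, hy, hyf, hye⟩ := exists_y (q := q) hF
  obtain ⟨x, hx⟩ := exists_orderOf (F := F) hF hw (k := 3) (by norm_num) hwo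
  have hxw : x ^ w = 1 := by rw [← hx, pow_orderOf_eq_one]
  have hx1 : x ≠ 1 := by
    rintro rfl
    rw [orderOf_one] at hx
    exact hw.one_lt.ne hx
  have hwq : ¬ w ∣ q := not_dvd_of_ord hw hwo (by norm_num)
  have hwF : ¬ w ∣ Fintype.card F := by
    rw [← Nat.card_eq_fintype_card]
    exact not_dvd_card hF hw hwq
  have hco : Nat.Coprime w (Fintype.card F) := (Nat.Prime.coprime_iff_not_dvd hw).2 hwF
  have hxfix : finrank F (fx (L 3 F q x)) = 0 := by
    rw [Submodule.finrank_eq_zero, eq_bot_iff]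
    intro v hv
    rw [Submodule.mem_bot]
    exact eq_zero_of_fix hF hw (by norm_num) hwo hxw hx1 (mem_fx.1 hv)
  have hone : finrank F (fx (L 3 F q (1 : SU 3 F q))) = 3 := by
    rw [L_one_fx, finrank_top, finrank_fintype_fun_eq_card, Fintype.card_fin]
  refine ⟨blk 3 3 F q (x, y), blk 3 3 F q (x, 1), blk 3 3 F q (1, y), ?_, ?_, ?_, ?_, ?_, ?_, ?_, ?_⟩
  · obtain ⟨i, hi1, hi2⟩ := Nat.chineseRemainder hco 1 0
    refine ⟨i, ?_⟩
    rw [← map_pow, Prod.pow_mk]
    congr 2
    · have h3 : x ^ i = x ^ 1 := pow_eq_pow_iff_modEq.2 (by rw [hx]; exact hi1)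
      rw [h3, pow_one]
    · obtain ⟨j, hj⟩ := (Nat.modEq_zero_iff_dvd).1 hi2
      rw [hj, pow_mul, hy, one_pow]
  · obtain ⟨i, hi1, hi2⟩ := Nat.chineseRemainder hco 0 1
    refine ⟨i, ?_⟩
    rw [← map_pow, Prod.pow_mk]
    congr 2
    · obtain ⟨j, hj⟩ := (Nat.modEq_zero_iff_dvd).1 hi1
      rw [hj, pow_mul, hxw, one_pow]
    · have h3 : y ^ i = y ^ 1 := pow_eq_pow_iff_modEq.2 (hi2.of_dvd (orderOf_dvd_of_pow_eq_one hy))
      rw [h3, pow_one]
  · rw [← map_pow, Prod.pow_mk, hxw, one_pow]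
    exact map_one _
  · intro h
    exact hx1 (eq_one_left hF (by norm_num) (by norm_num) h)
  · rw [finrank_fx_blk, hxfix, hone]
  · rw [finrank_fx_blk, hyf, hone]
  · intro v hv
    obtain ⟨u, hu⟩ := mem_cm.1 hv
    have hr : (fun j => v (finSumFinEquiv (.inr j))) = (0 : Fin 3 → F) := by
      funext i
      rw [← hu]
      change L (3 + 3) F q (blk 3 3 F q (x, 1)) u (finSumFinEquiv (.inr i)) - u (finSumFinEquiv (.inr i)) = 0
      rw [L_blk_inr, map_one]
      exact sub_self _
    funext i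
    obtain ⟨j | j, rfl⟩ := finSumFinEquiv.surjective i
    · rw [L_blk_inl, map_one]
      rfl
    · rw [L_blk_inr, hr, map_zero]
      exact (congrFun hr j).symm
  · intro v hv hv0 c hc
    have h1 : (fun j => v (finSumFinEquiv (.inl j))) = (0 : Fin 3 → F) := by
      refine eq_zero_of_fix hF hw (by norm_num) hwo hxw hx1 ?_
      funext i
      rw [← L_blk_inl x 1 v i, mem_fx.1 hv]
    have h2 : L 3 F q y (fun j => v (finSumFinEquiv (.inr j))) = c • fun j => v (finSumFinEquiv (.inr j)) := by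
      funext i
      rw [← L_blk_inr 1 y v i, hc]
      rfl
    have h3 : (fun j => v (finSumFinEquiv (.inr j))) ≠ (0 : Fin 3 → F) := by
      intro h3
      apply hv0
      funext i
      obtain ⟨j | j, rfl⟩ := finSumFinEquiv.surjective i
      · exact congrFun h1 j
      · exact congrFun h3 j
    rw [herm_blk, hye _ c h3 h2, h1, herm_zero_left, add_zero]

end Cfsg.Agent.H680.Cov.SU6
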