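import Cfsg.Agent.H251.GeoUMain
import Cfsg.Agent.H906.Cov.EKill
import Cfsg.Agent.H951.Elem

/-!
# S2499, `SU_6(q)`: geometric subgroups containing an element with a fixed space of dimension three (helper680)

* `kill_ext` : `g, h` normalise a field of matrices of degree `r`, the order of `g` is prime to `r`, `h` is trivial on
  `[V, g]`: then `r` divides the dimension of `C_V(h)`.
* `subfield_fix` : an element of prime order `w` of a subfield group: `C_V(g) = 0`, or `g = 1`, if `|F₀|` has order `n` modulo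
  `w` (`n` the dimension).
* `tensor_fix` : an element of prime order `w` (`w` prime to `|GL_{n₁}|`) of a tensor product subgroup: `n₁` divides the
  dimension of `C_V(g)`.
* `decomp_inv` : an element of prime order `w > t` fixes the members of a decomposition.
-/

set_option autoImplicit false
set_option linter.unusedSectionVars false

namespace Cfsg.Agent.H680.Cov.SU6

open Cfsg Cfsg.Geo Module Cfsg.Agent.H951 Cfsg.Agent.H251.GeoU Cfsg.Agent.H251.GeoCard
open scoped Matrix MatrixGroups Kronecker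

universe u

section

variable {ι : Type} [Fintype ι] [DecidableEq ι] {F : Type u} [Field F] [Fintype F]

/-- (C3) -/
theorem kill_ext [Nonempty ι] {r : ℕ} {K : Subalgebra F (Matrix ι ι F)} (hK : IsFieldSubalgebra r K)
    {g h : GL ι F} (hg : g ∈ subalgebraNormalizer K) (hh : h ∈ subalgebraNormalizer K)
    (hco : Nat.Coprime (orderOf g) r) (hcm : cm (Matrix.toLin' (g : Matrix ι ι F)) ≠ ⊥)
    (htriv : ∀ v ∈ cm (Matrix.toLin' (g : Matrix ι ι F)), (h : Matrix ι ι F) *ᵥ v = v) :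
    r ∣ finrank F (fx (Matrix.toLin' (h : Matrix ι ι F))) := by
  have hcom : ∀ a ∈ K, (g : Matrix ι ι F) * a = a * g := H906.Cov.commute_of_coprime hK hg hco
  -- `[V, g]` is invariant under the field
  have hinv : ∀ a ∈ K, ∀ v ∈ cm (Matrix.toLin' (g : Matrix ι ι F)), a *ᵥ v ∈ cm (Matrix.toLin' (g : Matrix ι ι F)) := by
    intro a ha v hv
    obtain ⟨w, rfl⟩ := mem_cm.1 hv
    refine mem_cm.2 ⟨a *ᵥ w, ?_⟩
    rw [Matrix.toLin'_apply, Matrix.toLin'_apply, Matrix.mulVec_mulVec, hcom a ha, ← Matrix.mulVec_mulVec,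
      ← Matrix.mulVec_sub]
  obtain ⟨v₀, hv₀, hv₀'⟩ := (Submodule.ne_bot_iff _).1 hcm
  have hinvh : ((h⁻¹ : GL ι F) : Matrix ι ι F) * (h : Matrix ι ι F) = 1 := by
    rw [← Units.val_mul, inv_mul_cancel, Units.val_one]
  have hh' : ∀ v ∈ cm (Matrix.toLin' (g : Matrix ι ι F)), ((h⁻¹ : GL ι F) : Matrix ι ι F) *ᵥ v = v := by
    intro v hv
    conv_lhs => rw [← htriv v hv]
    rw [Matrix.mulVec_mulVec, hinvh, Matrix.one_mulVec]
  -- `h` commutes with the field
  have hcomh : ∀ a ∈ K, (h : Matrix ι ι F) * a = a * h := by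
    intro a ha
    set d : Matrix ι ι F := (h : Matrix ι ι F) * a * ((h⁻¹ : GL ι F) : Matrix ι ι F) - a with hd
    have hdK : d ∈ K := K.sub_mem ((hh a).1 ha) ha
    have hdv : d *ᵥ v₀ = 0 := by
      rw [hd, Matrix.sub_mulVec, ← Matrix.mulVec_mulVec, hh' v₀ hv₀, ← Matrix.mulVec_mulVec,
        htriv _ (hinv a ha v₀ hv₀), sub_self]
    have hd0 : d = 0 := by
      by_contra hne
      obtain ⟨y, hy, hdy⟩ := hK.inv d hdK hne
      apply hv₀'
      have h1 : y * d = 1 := by rw [hK.comm y hy d hdK, hdy]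
      rw [← Matrix.one_mulVec v₀, ← h1, ← Matrix.mulVec_mulVec, hdv, Matrix.mulVec_zero]
    have h2 : (h : Matrix ι ι F) * a * ((h⁻¹ : GL ι F) : Matrix ι ι F) = a := sub_eq_zero.1 hd0
    calc (h : Matrix ι ι F) * a = (h : Matrix ι ι F) * a * (((h⁻¹ : GL ι F) : Matrix ι ι F) * (h : Matrix ι ι F)) := by
          rw [hinvh, mul_one]
      _ = a * h := by rw [← mul_assoc, h2]
  apply H906.Cov.dvd_finrank_of_invariant hK
  intro a ha v hv
  rw [mem_fx, Matrix.toLin'_apply] at hv ⊢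
  rw [Matrix.mulVec_mulVec, hcomh a ha, ← Matrix.mulVec_mulVec, hv]

/-- an element of prime order `w`, `w` prime to `N`: an exponent which is `1` modulo `w` and `0` modulo `N` -/
theorem exists_exp {w N : ℕ} (hw : w.Prime) (hN : ¬ w ∣ N) :
    ∃ k : ℕ, N ∣ k ∧ ∀ {G : Type u} [Group G] (g : G), g ^ w = 1 → g ^ k = g := by
  have hco : Nat.Coprime N w := ((Nat.Prime.coprime_iff_not_dvd hw).2 hN).symm
  obtain ⟨k, h1, h2⟩ := Nat.chineseRemainder hco 0 1
  refine ⟨k, (Nat.modEq_zero_iff_dvd).1 h1, fun {G} _ g hg => ?_⟩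
  have h3 : k % w = 1 := by
    have h4 : k % w = 1 % w := h2
    rw [h4, Nat.mod_eq_of_lt hw.one_lt]
  rw [← Nat.mod_add_div k w, h3, pow_add, pow_one, pow_mul, hg, one_pow, mul_one]

theorem toLin_pow_one {g : GL ι F} {w : ℕ} (hg : g ^ w = 1) : Matrix.toLin' (g : Matrix ι ι F) ^ w = 1 := by
  rw [← toLin_pow, hg, Units.val_one, Matrix.toLin'_one]
  rfl

theorem fx_eq_bot_iff {g : GL ι F} : fx (Matrix.toLin' (g : Matrix ι ι F)) = ⊥ ↔
    ((g : Matrix ι ι F) - 1).det ≠ 0 := by
  rw [Ne, ← Matrix.exists_mulVec_eq_zero_iff]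
  constructor
  · rintro h ⟨v, hv, h1⟩
    apply hv
    have h2 : v ∈ fx (Matrix.toLin' (g : Matrix ι ι F)) := by
      rw [mem_fx, Matrix.toLin'_apply]
      rwa [Matrix.sub_mulVec, Matrix.one_mulVec, sub_eq_zero] at h1
    rwa [h, Submodule.mem_bot] at h2
  · intro h
    rw [Submodule.eq_bot_iff]
    intro v hv
    by_contra hv0
    apply h
    refine ⟨v, hv0, ?_⟩
    rw [mem_fx, Matrix.toLin'_apply] at hv
    rw [Matrix.sub_mulVec, Matrix.one_mulVec, hv, sub_self]

theorem eq_one_of_fx_top {g : GL ι F} (h : fx (Matrix.toLin' (g : Matrix ι ι F)) = ⊤) : g = 1 := by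
  apply Units.ext
  apply Matrix.toLin'.injective
  apply LinearMap.ext
  intro v
  have h1 : v ∈ fx (Matrix.toLin' (g : Matrix ι ι F)) := by rw [h]; trivial
  rw [mem_fx.1 h1, Units.val_one, Matrix.toLin'_one]
  rfl

/-- (C5) -/
theorem subfield_fix {F₀ : Subfield F} {P g : GL ι F} {w : ℕ} (hg : g ∈ subfieldSubgroup F₀ P) (hw : w.Prime)
    (hgw : g ^ w = 1) (hF : ¬ w ∣ Nat.card F) (hF1 : ¬ w ∣ Nat.card F - 1)
    (ho : orderOf ((Nat.card F₀ : ℕ) : ZMod w) = Fintype.card ι) :
    fx (Matrix.toLin' (g : Matrix ι ι F)) = ⊥ ∨ g = 1 := by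
  classical
  have hfw := Fact.mk hw
  obtain ⟨g', hg', rfl⟩ := hg
  have hg'w : g' ^ w = 1 := by
    have h1 : (MulAut.conj P).toMonoidHom (g' ^ w) = 1 := by rw [map_pow]; exact hgw
    have h2 : (MulAut.conj P) (g' ^ w) = 1 := h1
    rwa [map_eq_one_iff _ (MulAut.conj P).injective] at h2
  -- a product of a matrix over `F₀` and a scalar
  obtain ⟨m, hm, z, hz, hmz⟩ : ∃ m ∈ (Matrix.GeneralLinearGroup.map (n := ι) (F₀.subtype : F₀ →+* F)).range,
      ∃ z ∈ scalars ι F, g' = m * z := by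
    have hn : (scalars ι F).Normal := ⟨fun z hz x => by
      rw [mul_assoc, scalars_central hz, mul_inv_cancel_left]
      exact hz⟩
    obtain ⟨m, hm, z, hz, h⟩ := Subgroup.mem_sup_of_normal_right.1 hg'
    exact ⟨m, hm, z, hz, h.symm⟩
  obtain ⟨k, hk, hkg⟩ := exists_exp.{u} hw hF1
  have hzk : z ^ k = 1 := by
    obtain ⟨j, hj⟩ := hk
    have h1 : z ^ (Nat.card F - 1) = 1 := by
      have h2 : orderOf z ∣ Nat.card F - 1 := by
        rw [← Subgroup.orderOf_mk z hz]
        exact (orderOf_dvd_natCard _).trans card_scalars_dvd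
      exact orderOf_dvd_iff_pow_eq_one.1 h2
    rw [hj, pow_mul, h1, one_pow]
  have hgm : g' = m ^ k := by
    have h1 := hkg g' hg'w
    have hc : Commute m z := (scalars_central hz m).symm
    rw [hmz, hc.mul_pow, hzk, mul_one] at h1
    rw [hmz, ← h1]
  obtain ⟨m₀, rfl⟩ := hm
  rw [← map_pow] at hgm
  set m₁ := m₀ ^ k with hm₁
  have hinj : Function.Injective (Matrix.GeneralLinearGroup.map (n := ι) (F₀.subtype : F₀ →+* F)) := by
    intro a b hab
    apply Units.ext
    have h1 := congrArg (fun x : GL ι F => (x : Matrix ι ι F)) hab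
    ext i j
    have h2 := congrFun (congrFun h1 i) j
    exact h2
  have hm₁w : m₁ ^ w = 1 := by
    apply hinj
    rw [map_pow, ← hgm, hg'w, map_one]
  have hfin : Fintype F₀ := Fintype.ofFinite F₀
  have hc0 : Nat.card F₀ = Fintype.card F₀ := Nat.card_eq_fintype_card
  have hr : (w : F₀) ≠ 0 := by
    intro h1
    have h2 : (w : F) = 0 := by
      have h3 := congrArg (F₀.subtype : F₀ →+* F) h1
      rwa [map_natCast, map_zero] at h3
    obtain ⟨p, hp⟩ := CharP.exists F
    obtain ⟨j, hpp, hj⟩ := FiniteField.card F p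
    have h4 : p ∣ w := (CharP.cast_eq_zero_iff F p w).1 h2
    have h5 : p = w := (Nat.prime_dvd_prime_iff_eq hpp hw).1 h4
    apply hF
    rw [Nat.card_eq_fintype_card, hj, h5]
    exact dvd_pow_self w j.ne_zero
  obtain ⟨b, hb⟩ := H950.exists_finrank_eq (F := F₀) hr (toLin_pow_one hm₁w) (W := ⊤) (fun _ _ => trivial)
  rw [top_inf_eq, finrank_top, finrank_fintype_fun_eq_card, ← hc0, ho] at hb
  have hconj : ∀ x : GL ι F, (((MulAut.conj P).toMonoidHom x : GL ι F) : Matrix ι ι F) - 1 =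
      (P : Matrix ι ι F) * ((x : Matrix ι ι F) - 1) * ((P⁻¹ : GL ι F) : Matrix ι ι F) := by
    intro x
    have h1 : ((MulAut.conj P).toMonoidHom x : GL ι F) = P * x * P⁻¹ := rfl
    rw [h1, Units.val_mul, Units.val_mul, mul_sub, sub_mul, mul_one, ← Units.val_mul P P⁻¹, mul_inv_cancel, Units.val_one]
  rcases Nat.eq_zero_or_pos b with h0 | h0
  · right
    rw [h0, mul_zero, add_zero] at hb
    have h1 : fx (Matrix.toLin' (m₁ : Matrix ι ι F₀)) = ⊤ := by
      apply Submodule.eq_top_of_finrank_eq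
      rw [← hb, finrank_fintype_fun_eq_card]
    have h2 := eq_one_of_fx_top h1
    rw [hgm, h2, map_one, map_one]
  · left
    have h1 : finrank F₀ (fx (Matrix.toLin' (m₁ : Matrix ι ι F₀))) = 0 := by
      have h2 : Fintype.card ι ≤ Fintype.card ι * b := Nat.le_mul_of_pos_right _ h0
      omega
    rw [Submodule.finrank_eq_zero, fx_eq_bot_iff] at h1
    rw [fx_eq_bot_iff, hconj, Matrix.det_mul, Matrix.det_mul]
    have h3 : ((g' : Matrix ι ι F) - 1).det = F₀.subtype (((m₁ : Matrix ι ι F₀) - 1).det) := by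
      rw [RingHom.map_det, hgm]
      congr 1
      ext i j
      simp only [Matrix.sub_apply, RingHom.mapMatrix_apply, Matrix.map_apply, map_sub]
      congr 1
      rw [Matrix.one_apply, Matrix.one_apply]
      split_ifs <;> simp
    have h4 : (P : Matrix ι ι F).det ≠ 0 := (Matrix.isUnit_iff_isUnit_det _).1 P.isUnit |>.ne_zero
    have h5 : ((P⁻¹ : GL ι F) : Matrix ι ι F).det ≠ 0 := (Matrix.isUnit_iff_isUnit_det _).1 (P⁻¹).isUnit |>.ne_zero
    refine mul_ne_zero (mul_ne_zero h4 ?_) h5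
    rw [h3]
    intro h6
    apply h1
    exact (map_eq_zero_iff _ (F₀.subtype).injective).1 h6

/-- (C2) -/
theorem decomp_inv {t m w : ℕ} {D : Fin t → Submodule F (ι → F)} (hD : IsMDecomposition m D) (hw : w.Prime)
    (ht : t < w) {g : GL ι F} (hg : g ∈ decompositionStabilizer D) (hgw : g ^ w = 1) (i : Fin t) :
    g ∈ subspaceStabilizer (D i) := by
  classical
  have hinj : Function.Injective D := by
    intro i j hij
    by_contra hne
    have h1 := hD.indep.pairwiseDisjoint hne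
    have h2 : D i = ⊥ := by
      have h3 : Disjoint (D i) (D j) := h1
      rw [← hij, disjoint_self] at h3
      exact h3
    have h3 := hD.finrank_eq i
    rw [h2, finrank_bot] at h3
    have := hD.pos
    omega
  obtain ⟨σ, hσ⟩ := hg
  have hpow : ∀ (k : ℕ) (i : Fin t), (D i).map (Matrix.toLin' ((g ^ k : GL ι F) : Matrix ι ι F)) = D ((σ ^ k) i) := by
    intro k
    induction k with
    | zero => intro i; simp
    | succ k ih =>
      intro i
      rw [pow_succ, Units.val_mul, Matrix.toLin'_mul, Submodule.map_comp, hσ, ih, pow_succ, Equiv.Perm.mul_apply]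
  have h1 : σ ^ w = 1 := by
    ext i
    have h2 := hpow w i
    rw [hgw, Units.val_one, Matrix.toLin'_one, Submodule.map_id] at h2
    rw [← hinj h2, Equiv.Perm.one_apply]
  have h2 : σ = 1 := by
    have h3 : orderOf σ ∣ w := orderOf_dvd_of_pow_eq_one h1
    rcases (Nat.dvd_prime hw).1 h3 with h4 | h4
    · exact orderOf_eq_one_iff.1 h4
    · exfalso
      have h5 : w ∣ t.factorial := by
        rw [← h4]
        have h6 := orderOf_dvd_card (x := σ)
        rwa [Fintype.card_perm, Fintype.card_fin] at h6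
      have := (hw.dvd_factorial).1 h5
      omega
  have h3 : (D i).map (Matrix.toLin' (g : Matrix ι ι F)) = D i := by rw [hσ, h2, Equiv.Perm.one_apply]
  rw [H918.mem_subspaceStabilizer]
  intro v
  constructor
  · intro hv
    rw [← h3]
    exact ⟨v, hv, rfl⟩
  · intro hv
    rw [← h3] at hv
    obtain ⟨u, hu, hu'⟩ := hv
    have h4 : (g : Matrix ι ι F) *ᵥ u = (g : Matrix ι ι F) *ᵥ v := hu'
    have h5 : u = v := by
      have h6 := congrArg (fun x => ((g⁻¹ : GL ι F) : Matrix ι ι F) *ᵥ x) h4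
      simp only [Matrix.mulVec_mulVec, ← Units.val_mul, inv_mul_cancel, Units.val_one, Matrix.one_mulVec] at h6
      exact h6
    rw [← h5]
    exact hu

end

section

variable {F : Type u} [Field F] [Fintype F]

/-- the fixed space of `1 ⊗ b` -/
theorem finrank_kron {n₁ n₂ : ℕ} (b : Matrix (Fin n₂) (Fin n₂) F) :
    finrank F (fx (Matrix.toLin' ((1 : Matrix (Fin n₁) (Fin n₁) F) ⊗ₖ b))) = n₁ * finrank F (fx (Matrix.toLin' b)) := by
  have key : ∀ (v : Fin n₁ × Fin n₂ → F) (i : Fin n₁) (j : Fin n₂),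
      (((1 : Matrix (Fin n₁) (Fin n₁) F) ⊗ₖ b) *ᵥ v) (i, j) = (b *ᵥ fun j' => v (i, j')) j := by
    intro v i j
    have h1 : ∀ x : Fin n₁ × Fin n₂, ((1 : Matrix (Fin n₁) (Fin n₁) F) ⊗ₖ b) (i, j) x =
        (1 : Matrix (Fin n₁) (Fin n₁) F) i x.1 * b j x.2 := fun x => rfl
    have h2 : (((1 : Matrix (Fin n₁) (Fin n₁) F) ⊗ₖ b) *ᵥ v) (i, j) =
        ∑ x : Fin n₁ × Fin n₂, (1 : Matrix (Fin n₁) (Fin n₁) F) i x.1 * b j x.2 * v x := by
      simp only [Matrix.mulVec, dotProduct, h1]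
    rw [h2, Fintype.sum_prod_type, Finset.sum_eq_single i]
    · simp only [Matrix.mulVec, dotProduct, Matrix.one_apply_eq, one_mul]
    · intro i' _ hi
      apply Finset.sum_eq_zero
      intro x _
      show (1 : Matrix (Fin n₁) (Fin n₁) F) i i' * b j x * v (i', x) = 0
      rw [Matrix.one_apply_ne (Ne.symm hi), zero_mul, zero_mul]
    · intro h; exact absurd (Finset.mem_univ _) h
  let e : fx (Matrix.toLin' ((1 : Matrix (Fin n₁) (Fin n₁) F) ⊗ₖ b)) ≃ₗ[F] (Fin n₁ → fx (Matrix.toLin' b)) :=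
    { toFun := fun v i => ⟨fun j => v.1 (i, j), by
        rw [mem_fx, Matrix.toLin'_apply]
        funext j
        rw [← key]
        have h1 := mem_fx.1 v.2
        rw [Matrix.toLin'_apply] at h1
        rw [h1]⟩
      map_add' := fun v w => rfl
      map_smul' := fun c v => rfl
      invFun := fun f => ⟨fun ij => (f ij.1).1 ij.2, by
        rw [mem_fx, Matrix.toLin'_apply]
        funext ij
        obtain ⟨i, j⟩ := ij
        rw [key]
        have h1 := mem_fx.1 (f i).2
        rw [Matrix.toLin'_apply] at h1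
        exact congrFun h1 j⟩
      left_inv := fun v => rfl
      right_inv := fun f => rfl }
  rw [e.finrank_eq, finrank_pi_fintype]
  simp

/-- (C4) -/
theorem tensor_fix {n n₁ n₂ : ℕ} {e : Fin n ≃ Fin n₁ × Fin n₂} {P g : GL (Fin n) F} {w : ℕ}
    (hg : g ∈ tensorProductSubgroup n₁ n₂ e P) (hw : w.Prime) (hgw : g ^ w = 1)
    (h1 : ¬ w ∣ Nat.card (GL (Fin n₁) F)) : n₁ ∣ finrank F (fx (Matrix.toLin' (g : Matrix (Fin n) (Fin n) F))) := by
  classical
  obtain ⟨g', ⟨k, hk, rfl⟩, rfl⟩ := hg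
  obtain ⟨a, b, hab⟩ := hk
  obtain ⟨j, hj, hjg⟩ := exists_exp.{u} hw h1
  have hkw : k ^ w = 1 := by
    have h2 : (MulAut.conj P).toMonoidHom ((glReindex e.symm).toMonoidHom (k ^ w)) = 1 := by
      rw [map_pow, map_pow]; exact hgw
    have h3 : (MulAut.conj P) ((glReindex e.symm) (k ^ w)) = 1 := h2
    rw [map_eq_one_iff _ (MulAut.conj P).injective] at h3
    rwa [map_eq_one_iff _ (glReindex e.symm).injective] at h3
  have hkj : k ^ j = k := hjg k hkw
  have haj : a ^ j = 1 := by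
    obtain ⟨i, hi⟩ := hj
    rw [hi, pow_mul, pow_card_eq_one', one_pow]
  have hkm : (k : Matrix (Fin n₁ × Fin n₂) (Fin n₁ × Fin n₂) F) =
      (1 : Matrix (Fin n₁) (Fin n₁) F) ⊗ₖ ((b ^ j : GL (Fin n₂) F) : Matrix (Fin n₂) (Fin n₂) F) := by
    have h2 : ∀ i : ℕ, ((k ^ i : GL (Fin n₁ × Fin n₂) F) : Matrix (Fin n₁ × Fin n₂) (Fin n₁ × Fin n₂) F) =
        ((a ^ i : GL (Fin n₁) F) : Matrix (Fin n₁) (Fin n₁) F) ⊗ₖ ((b ^ i : GL (Fin n₂) F) : Matrix (Fin n₂) (Fin n₂) F) := by
      intro i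
      induction i with
      | zero => simp
      | succ i ih =>
        rw [pow_succ, Units.val_mul, ih, hab, pow_succ, pow_succ, Units.val_mul, Units.val_mul,
          Matrix.mul_kronecker_mul]
    rw [← hkj, h2, haj, Units.val_one]
  -- transport of the fixed space
  have hP : ∀ x : GL (Fin n) F, finrank F (fx (Matrix.toLin' (((MulAut.conj P).toMonoidHom x : GL (Fin n) F) :
      Matrix (Fin n) (Fin n) F))) = finrank F (fx (Matrix.toLin' (x : Matrix (Fin n) (Fin n) F))) := by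
    intro x
    let E : (Fin n → F) ≃ₗ[F] (Fin n → F) := Matrix.toLin'OfInv (M := (P : Matrix (Fin n) (Fin n) F))
      (M' := ((P⁻¹ : GL (Fin n) F) : Matrix (Fin n) (Fin n) F)) (by rw [← Units.val_mul, mul_inv_cancel, Units.val_one])
      (by rw [← Units.val_mul, inv_mul_cancel, Units.val_one])
    have hE : Matrix.toLin' (((MulAut.conj P).toMonoidHom x : GL (Fin n) F) : Matrix (Fin n) (Fin n) F) =
        tr E (Matrix.toLin' (x : Matrix (Fin n) (Fin n) F)) := by
      apply LinearMap.ext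
      intro v
      rw [tr_apply]
      have h2 : ((MulAut.conj P).toMonoidHom x : GL (Fin n) F) = P * x * P⁻¹ := rfl
      rw [h2, Units.val_mul, Units.val_mul, Matrix.toLin'_apply, Matrix.toLin'_apply, ← Matrix.mulVec_mulVec,
        ← Matrix.mulVec_mulVec]
      rfl
    rw [hE, finrank_fx_tr]
  rw [hP]
  have hR : finrank F (fx (Matrix.toLin' (((glReindex e.symm).toMonoidHom k : GL (Fin n) F) : Matrix (Fin n) (Fin n) F))) =
      finrank F (fx (Matrix.toLin' (k : Matrix (Fin n₁ × Fin n₂) (Fin n₁ × Fin n₂) F))) := by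
    let E : (Fin n → F) ≃ₗ[F] (Fin n₁ × Fin n₂ → F) := LinearEquiv.funCongrLeft F F e.symm
    have hE : Matrix.toLin' (((glReindex e.symm).toMonoidHom k : GL (Fin n) F) : Matrix (Fin n) (Fin n) F) =
        tr E (Matrix.toLin' (k : Matrix (Fin n₁ × Fin n₂) (Fin n₁ × Fin n₂) F)) := by
      apply LinearMap.ext
      intro v
      rw [tr_apply]
      funext i
      have h2 : (((glReindex e.symm).toMonoidHom k : GL (Fin n) F) : Matrix (Fin n) (Fin n) F) =
          (k : Matrix (Fin n₁ × Fin n₂) (Fin n₁ × Fin n₂) F).submatrix e e := rfl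
      have h3 : (E.symm (Matrix.toLin' (k : Matrix (Fin n₁ × Fin n₂) (Fin n₁ × Fin n₂) F) (E v))) i =
          (Matrix.toLin' (k : Matrix (Fin n₁ × Fin n₂) (Fin n₁ × Fin n₂) F) (E v)) (e i) := rfl
      rw [h3, h2, Matrix.toLin'_apply, Matrix.toLin'_apply]
      simp only [Matrix.mulVec, dotProduct, Matrix.submatrix_apply]
      have h4 : ∀ y, (E v) y = v (e.symm y) := fun y => rfl
      simp only [h4]
      rw [← Equiv.sum_comp e]
      simp
    rw [hE, finrank_fx_tr]
  rw [hR, hkm, finrank_kron]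
  exact dvd_mul_right _ _

end

end Cfsg.Agent.H680.Cov.SU6
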